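import Cfsg.Agent.Lib.Helper29.TcCox
import Cfsg.Prelude.Def_Spor_Fi22
import Cfsg.Agent.Lib.Helper29.FiB.Tab0
import Cfsg.Agent.Lib.Helper29.FiB.Tab1

/-! Generated certificate data for FiB (Fi22): tables of a Todd–Coxeter trace and of the coset action. -/

set_option autoImplicit false

namespace Cfsg.Agent.Lib.Helper29.FiB

open Cfsg.Agent.Lib.Helper29.TcTrace Cfsg.Agent.Lib.Helper29.TcCert Cfsg.Agent.Lib.Helper29.TcPerm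

def nodesL : List Cfsg.Spor.Fi22.Gen := [.b, .c, .d, .e, .f, .g, .h, .i]
def edgesQ : List (Cfsg.Spor.Fi22.Gen × ℕ × Cfsg.Spor.Fi22.Gen) := [(.b, 3, .c), (.c, 3, .d), (.d, 3, .e), (.d, 3, .h), (.e, 3, .f), (.f, 3, .g), (.h, 3, .i)]
def extraWords : List (List (Cfsg.Spor.Fi22.Gen × Bool)) := [[(.d, true), (.c, true), (.b, true), (.d, true), (.e, true), (.f, true), (.d, true), (.h, true), (.i, true), (.d, true), (.c, true), (.b, true), (.d, true), (.e, true), (.f, true), (.d, true), (.h, true), (.i, true), (.d, true), (.c, true), (.b, true), (.d, true), (.e, true), (.f, true), (.d, true), (.h, true), (.i, true), (.d, true), (.c, true), (.b, true), (.d, true), (.e, true), (.f, true), (.d, true), (.h, true), (.i, true), (.d, true), (.c, true), (.b, true), (.d,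 true), (.e, true), (.f, true), (.d, true), (.h, true), (.i, true), (.d, true), (.c, true), (.b, true), (.d, true), (.e, true), (.f, true), (.d, true), (.h, true), (.i, true), (.d, true), (.c, true), (.b, true), (.d, true), (.e, true), (.f, true), (.d, true), (.h, true), (.i, true), (.d, true), (.c, true), (.b, true), (.d, true), (.e, true), (.f, true), (.d, true), (.h, true), (.i, true), (.d, true), (.c, true), (.b, true), (.d, true), (.e, true), (.f, true), (.d, true), (.h, true), (.i, true), (.d, true), (.c, true), (.b, true), (.d, true), (.e, true), (.f, true), (.d, true), (.h, true), (.i, true)],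
  [(.b, true), (.c, true), (.d, true), (.e, true), (.f, true), (.g, true), (.h, true), (.b, true), (.c, true), (.d, true), (.e, true), (.f, true), (.g, true), (.h, true), (.b, true), (.c, true), (.d, true), (.e, true), (.f, true), (.g, true), (.h, true), (.b, true), (.c, true), (.d, true), (.e, true), (.f, true), (.g, true), (.h, true), (.b, true), (.c, true), (.d, true), (.e, true), (.f, true), (.g, true), (.h, true), (.b, true), (.c, true), (.d, true), (.e, true), (.f, true), (.g, true), (.h, true), (.b, true), (.c, true), (.d, true), (.e, true), (.f, true), (.g, true), (.h, true), (.b, true), (.c, true), (.d, true), (.e, true), (.f, true), (.g, true), (.h, true), (.b, true), (.c, true), (.d, true), (.e, true), (.f, true), (.g, true), (.h, true)],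
  [(.a, true)]]
def hWords : List (List (Cfsg.Spor.Fi22.Gen × Bool)) := [[(.b, true)],
  [(.c, true)],
  [(.d, true)],
  [(.e, true)],
  [(.f, true)],
  [(.g, true)],
  [(.h, true)]]
def colOf : Cfsg.Spor.Fi22.Gen × Bool → ℕ
  | (.a, true) => 0
  | (.a, false) => 1
  | (.b, _) => 2
  | (.c, _) => 3
  | (.d, _) => 4
  | (.e, _) => 5
  | (.f, _) => 6
  | (.g, _) => 7
  | (.h, _) => 8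
  | (.i, _) => 9
def colLetters : List (Cfsg.Spor.Fi22.Gen × Bool) := [(.a, true), (.a, false), (.b, true), (.c, true), (.d, true), (.e, true), (.f, true), (.g, true), (.h, true), (.i, true)]
def invL : List ℕ := [1, 0, 2, 3, 4, 5, 6, 7, 8, 9]
def vtree : WTree := (.node (.node (.node (.node (.node (.node (.node (.leaf 56 0 []) (.leaf 35 0 [9, 9])) (.node (.leaf 17 0 [4, 6, 4, 6]) (.leaf 55 0 [8, 16]))) (.node (.node (.leaf 8 0 [3, 3]) (.leaf 37 6 [8, 2, 3, 4, 5, 6, 7, 8, 2, 3, 4, 5, 6, 7, 8, 2, 3, 4, 5, 6, 7, 8, 2, 3, 4, 5, 6, 7, 8, 2, 3, 4, 5, 6, 7, 8, 2, 3, 4, 5, 6, 7, 8, 2, 3, 4, 5, 6, 7, 8, 2, 3, 4, 5, 6, 7, 8, 2, 3, 4, 5, 6, 7])) (.node (.leaf 25 1 [9, 5, 9, 5]) (.leaf 56 0 [])))) (.node (.node (.node (.leaf 4 0 [2, 6, 2, 6]) (.leaf 36 7 [8, 9, 4, 3,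 2, 4, 5, 6, 4, 8, 9, 4, 3, 2, 4, 5, 6, 4, 8, 9, 4, 3, 2, 4, 5, 6, 4, 8, 9, 4, 3, 2, 4, 5, 6, 4, 8, 9, 4, 3, 2, 4, 5, 6, 4, 8, 9, 4, 3, 2, 4, 5, 6, 4, 8, 9, 4, 3, 2, 4, 5, 6, 4, 8, 9, 4, 3, 2, 4, 5, 6, 4, 8, 9, 4, 3, 2, 4, 5, 6, 4, 8, 9, 4, 3, 2, 4, 5, 6, 4])) (.node (.leaf 21 0 [5, 5]) (.leaf 56 0 []))) (.node (.node (.leaf 12 1 [7, 3, 7, 3]) (.leaf 51 0 [4, 12])) (.node (.leaf 30 0 [7, 7]) (.leaf 56 0 []))))) (.node (.node (.node (.node (.leaf 2 0 [2, 4, 2, 4]) (.leaf 36 3 [4, 5, 6, 4, 8, 9, 4, 3, 2, 4, 5, 6, 4, 8, 9, 4, 3, 2, 4, 5, 6, 4, 8, 9, 4, 3, 2, 4, 5, 6, 4, 8, 9, 4, 3, 2, 4, 5, 6, 4, 8, 9, 4, 3, 2, 4, 5, 6, 4, 8, 9, 4, 3, 2, 4, 5, 6, 4, 8, 9, 4, 3, 2, 4, 5, 6, 4, 8, 9, 4, 3, 2, 4, 5, 6, 4, 8, 9, 4, 3, 2, 4, 5, 6, 4, 8, 9, 4, 3, 2])) (.node (.leaf 19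 0 [4, 8, 4, 8, 4, 8]) (.leaf 56 0 []))) (.node (.node (.leaf 10 1 [5, 3, 5, 3]) (.leaf 49 0 [2, 10])) (.node (.leaf 28 0 [6, 8, 6, 8]) (.leaf 56 0 [])))) (.node (.node (.node (.leaf 6 0 [2, 8, 2, 8]) (.leaf 37 2 [4, 5, 6, 7, 8, 2, 3, 4, 5, 6, 7, 8, 2, 3, 4, 5, 6, 7, 8, 2, 3, 4, 5, 6, 7, 8, 2, 3, 4, 5, 6, 7, 8, 2, 3, 4, 5, 6, 7, 8, 2, 3, 4, 5, 6, 7, 8, 2, 3, 4, 5, 6, 7, 8, 2, 3, 4, 5, 6, 7, 8, 2, 3])) (.node (.leaf 23 1 [7, 5, 7, 5]) (.leaf 56 0 []))) (.node (.node (.leaf 14 1 [9, 3, 9, 3]) (.leaf 53 0 [6, 14])) (.node (.leaf 32 1 [9, 7, 9, 7]) (.leaf 56 0 [])))))) (.node (.node (.node (.node (.node (.leaf 1 0 [2, 3, 2, 3, 2, 3]) (.leaf 36 1 [3, 2, 4, 5, 6, 4, 8, 9, 4, 3, 2, 4, 5, 6, 4, 8, 9, 4, 3, 2, 4, 5, 6, 4, 8, 9, 4, 3, 2, 4, 5, 6, 4, 8, 9, 4, 3, 2, 4,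 5, 6, 4, 8, 9, 4, 3, 2, 4, 5, 6, 4, 8, 9, 4, 3, 2, 4, 5, 6, 4, 8, 9, 4, 3, 2, 4, 5, 6, 4, 8, 9, 4, 3, 2, 4, 5, 6, 4, 8, 9, 4, 3, 2, 4, 5, 6, 4, 8, 9, 4])) (.node (.leaf 18 0 [4, 7, 4, 7]) (.leaf 56 0 []))) (.node (.node (.leaf 9 1 [4, 3, 4, 3, 4, 3]) (.leaf 39 0 [0, 1])) (.node (.leaf 27 0 [6, 7, 6, 7, 6, 7]) (.leaf 56 0 [])))) (.node (.node (.node (.leaf 5 0 [2, 7, 2, 7]) (.leaf 37 0 [2, 3, 4, 5, 6, 7, 8, 2, 3, 4, 5, 6, 7, 8, 2, 3, 4, 5, 6, 7, 8, 2, 3, 4, 5, 6, 7, 8, 2, 3, 4, 5, 6, 7, 8, 2, 3, 4, 5, 6, 7, 8, 2, 3, 4, 5, 6, 7, 8, 2, 3, 4, 5, 6, 7, 8, 2, 3, 4, 5, 6, 7, 8])) (.node (.leaf 22 1 [6, 5, 6, 5, 6, 5]) (.leaf 56 0 []))) (.node (.node (.leaf 13 1 [8, 3, 8, 3]) (.leaf 52 0 [5, 13])) (.node (.leaf 31 1 [8, 7, 8, 7]) (.leaf 56 0 []))))) (.node (.node (.node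 (.node (.leaf 3 0 [2, 5, 2, 5]) (.leaf 36 5 [6, 4, 8, 9, 4, 3, 2, 4, 5, 6, 4, 8, 9, 4, 3, 2, 4, 5, 6, 4, 8, 9, 4, 3, 2, 4, 5, 6, 4, 8, 9, 4, 3, 2, 4, 5, 6, 4, 8, 9, 4, 3, 2, 4, 5, 6, 4, 8, 9, 4, 3, 2, 4, 5, 6, 4, 8, 9, 4, 3, 2, 4, 5, 6, 4, 8, 9, 4, 3, 2, 4, 5, 6, 4, 8, 9, 4, 3, 2, 4, 5, 6, 4, 8, 9, 4, 3, 2, 4, 5])) (.node (.leaf 20 0 [4, 9, 4, 9]) (.leaf 56 0 []))) (.node (.node (.leaf 11 1 [6, 3, 6, 3]) (.leaf 50 0 [3, 11])) (.node (.leaf 29 0 [6, 9, 6, 9]) (.leaf 56 0 [])))) (.node (.node (.node (.leaf 7 0 [2, 9, 2, 9]) (.leaf 37 4 [6, 7, 8, 2, 3, 4, 5, 6, 7, 8, 2, 3, 4, 5, 6, 7, 8, 2, 3, 4, 5, 6, 7, 8, 2, 3, 4, 5, 6, 7, 8, 2, 3, 4, 5, 6, 7, 8, 2, 3, 4, 5, 6, 7, 8, 2, 3, 4, 5, 6, 7, 8, 2, 3, 4, 5, 6, 7, 8, 2, 3, 4, 5])) (.node (.leaf 24 1 [8, 5, 8, 5]) (.leaf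 56 0 []))) (.node (.node (.leaf 16 0 [4, 5, 4, 5, 4, 5]) (.leaf 54 0 [7, 15])) (.node (.leaf 34 0 [8, 9, 8, 9, 8, 9]) (.leaf 56 0 []))))))) (.node (.node (.node (.node (.node (.node (.leaf 0 0 [2, 2]) (.leaf 36 0 [4, 3, 2, 4, 5, 6, 4, 8, 9, 4, 3, 2, 4, 5, 6, 4, 8, 9, 4, 3, 2, 4, 5, 6, 4, 8, 9, 4, 3, 2, 4, 5, 6, 4, 8, 9, 4, 3, 2, 4, 5, 6, 4, 8, 9, 4, 3, 2, 4, 5, 6, 4, 8, 9, 4, 3, 2, 4, 5, 6, 4, 8, 9, 4, 3, 2, 4, 5, 6, 4, 8, 9, 4, 3, 2, 4, 5, 6, 4, 8, 9, 4, 3, 2, 4, 5, 6, 4, 8, 9])) (.node (.leaf 17 1 [6, 4, 6, 4]) (.leaf 55 1 [16, 8]))) (.node (.node (.leaf 9 0 [3, 4, 3, 4, 3, 4]) (.leaf 38 0 [0])) (.node (.leaf 26 0 [6, 6]) (.leaf 56 0 [])))) (.node (.node (.node (.leaf 4 1 [6, 2, 6, 2]) (.leaf 36 8 [9, 4, 3, 2, 4, 5, 6, 4, 8, 9, 4, 3, 2, 4, 5, 6, 4, 8, 9,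 4, 3, 2, 4, 5, 6, 4, 8, 9, 4, 3, 2, 4, 5, 6, 4, 8, 9, 4, 3, 2, 4, 5, 6, 4, 8, 9, 4, 3, 2, 4, 5, 6, 4, 8, 9, 4, 3, 2, 4, 5, 6, 4, 8, 9, 4, 3, 2, 4, 5, 6, 4, 8, 9, 4, 3, 2, 4, 5, 6, 4, 8, 9, 4, 3, 2, 4, 5, 6, 4, 8])) (.node (.leaf 22 0 [5, 6, 5, 6, 5, 6]) (.leaf 56 0 []))) (.node (.node (.leaf 13 0 [3, 8, 3, 8]) (.leaf 51 1 [12, 4])) (.node (.leaf 31 0 [7, 8, 7, 8]) (.leaf 56 0 []))))) (.node (.node (.node (.node (.leaf 2 1 [4, 2, 4, 2]) (.leaf 36 4 [5, 6, 4, 8, 9, 4, 3, 2, 4, 5, 6, 4, 8, 9, 4, 3, 2, 4, 5, 6, 4, 8, 9, 4, 3, 2, 4, 5, 6, 4, 8, 9, 4, 3, 2, 4, 5, 6, 4, 8, 9, 4, 3, 2, 4, 5, 6, 4, 8, 9, 4, 3, 2, 4, 5, 6, 4, 8, 9, 4, 3, 2, 4, 5, 6, 4, 8, 9, 4, 3, 2, 4, 5, 6, 4, 8, 9, 4, 3, 2, 4, 5, 6, 4, 8, 9, 4, 3, 2, 4])) (.node (.leaf 19 1 [8, 4, 8, 4, 8, 4]) (.leaf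 56 0 []))) (.node (.node (.leaf 11 0 [3, 6, 3, 6]) (.leaf 49 1 [10, 2])) (.node (.leaf 28 1 [8, 6, 8, 6]) (.leaf 56 0 [])))) (.node (.node (.node (.leaf 6 1 [8, 2, 8, 2]) (.leaf 37 3 [5, 6, 7, 8, 2, 3, 4, 5, 6, 7, 8, 2, 3, 4, 5, 6, 7, 8, 2, 3, 4, 5, 6, 7, 8, 2, 3, 4, 5, 6, 7, 8, 2, 3, 4, 5, 6, 7, 8, 2, 3, 4, 5, 6, 7, 8, 2, 3, 4, 5, 6, 7, 8, 2, 3, 4, 5, 6, 7, 8, 2, 3, 4])) (.node (.leaf 24 0 [5, 8, 5, 8]) (.leaf 56 0 []))) (.node (.node (.leaf 15 0 [4, 4]) (.leaf 53 1 [14, 6])) (.node (.leaf 33 0 [8, 8]) (.leaf 56 0 [])))))) (.node (.node (.node (.node (.node (.leaf 1 1 [3, 2, 3, 2, 3, 2]) (.leaf 36 2 [2, 4, 5, 6, 4, 8, 9, 4, 3, 2, 4, 5, 6, 4, 8, 9, 4, 3, 2, 4, 5, 6, 4, 8, 9, 4, 3, 2, 4, 5, 6, 4, 8, 9, 4, 3, 2, 4, 5, 6, 4, 8, 9, 4, 3, 2, 4, 5, 6, 4, 8, 9, 4,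 3, 2, 4, 5, 6, 4, 8, 9, 4, 3, 2, 4, 5, 6, 4, 8, 9, 4, 3, 2, 4, 5, 6, 4, 8, 9, 4, 3, 2, 4, 5, 6, 4, 8, 9, 4, 3])) (.node (.leaf 18 1 [7, 4, 7, 4]) (.leaf 56 0 []))) (.node (.node (.leaf 10 0 [3, 5, 3, 5]) (.leaf 39 1 [1, 0])) (.node (.leaf 27 1 [7, 6, 7, 6, 7, 6]) (.leaf 56 0 [])))) (.node (.node (.node (.leaf 5 1 [7, 2, 7, 2]) (.leaf 37 1 [3, 4, 5, 6, 7, 8, 2, 3, 4, 5, 6, 7, 8, 2, 3, 4, 5, 6, 7, 8, 2, 3, 4, 5, 6, 7, 8, 2, 3, 4, 5, 6, 7, 8, 2, 3, 4, 5, 6, 7, 8, 2, 3, 4, 5, 6, 7, 8, 2, 3, 4, 5, 6, 7, 8, 2, 3, 4, 5, 6, 7, 8, 2])) (.node (.leaf 23 0 [5, 7, 5, 7]) (.leaf 56 0 []))) (.node (.node (.leaf 14 0 [3, 9, 3, 9]) (.leaf 52 1 [13, 5])) (.node (.leaf 32 0 [7, 9, 7, 9]) (.leaf 56 0 []))))) (.node (.node (.node (.node (.leaf 3 1 [5, 2, 5, 2]) (.leaf 36 6 [4,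 8, 9, 4, 3, 2, 4, 5, 6, 4, 8, 9, 4, 3, 2, 4, 5, 6, 4, 8, 9, 4, 3, 2, 4, 5, 6, 4, 8, 9, 4, 3, 2, 4, 5, 6, 4, 8, 9, 4, 3, 2, 4, 5, 6, 4, 8, 9, 4, 3, 2, 4, 5, 6, 4, 8, 9, 4, 3, 2, 4, 5, 6, 4, 8, 9, 4, 3, 2, 4, 5, 6, 4, 8, 9, 4, 3, 2, 4, 5, 6, 4, 8, 9, 4, 3, 2, 4, 5, 6])) (.node (.leaf 20 1 [9, 4, 9, 4]) (.leaf 56 0 []))) (.node (.node (.leaf 12 0 [3, 7, 3, 7]) (.leaf 50 1 [11, 3])) (.node (.leaf 29 1 [9, 6, 9, 6]) (.leaf 56 0 [])))) (.node (.node (.node (.leaf 7 1 [9, 2, 9, 2]) (.leaf 37 5 [7, 8, 2, 3, 4, 5, 6, 7, 8, 2, 3, 4, 5, 6, 7, 8, 2, 3, 4, 5, 6, 7, 8, 2, 3, 4, 5, 6, 7, 8, 2, 3, 4, 5, 6, 7, 8, 2, 3, 4, 5, 6, 7, 8, 2, 3, 4, 5, 6, 7, 8, 2, 3, 4, 5, 6, 7, 8, 2, 3, 4, 5, 6])) (.node (.leaf 25 0 [5, 9, 5, 9]) (.leaf 56 0 []))) (.node (.node (.leaf 16 1 [5, 4,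 5, 4, 5, 4]) (.leaf 54 1 [15, 7])) (.node (.leaf 34 1 [9, 8, 9, 8, 9, 8]) (.leaf 56 0 []))))))))
noncomputable def VL : List ℕ := [V0, V1, V2, V3, V4, V5, V6, V7, V8, V9]
noncomputable def RL : List ℕ := [R0, R1, R2, R3, R4, R5, R6, R7, R8, R9, R10, R11, R12, R13, R14, R15, R16]
noncomputable def D : Data := mkData 20 609580 3159 8 1048575 VL RL MG MT PAR PL FIN VERT vtree
def lay : Layout := ⟨20, 1048575, 7, 127, 97⟩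
def cols : List ℕ := [0, 1, 2, 3, 4, 5, 6, 7, 8, 9]
def baseL : List (List ℕ) := [[2, 2],
  [2, 3, 2, 3, 2, 3],
  [2, 4, 2, 4],
  [2, 5, 2, 5],
  [2, 6, 2, 6],
  [2, 7, 2, 7],
  [2, 8, 2, 8],
  [2, 9, 2, 9],
  [3, 3],
  [3, 4, 3, 4, 3, 4],
  [3, 5, 3, 5],
  [3, 6, 3, 6],
  [3, 7, 3, 7],
  [3, 8, 3, 8],
  [3, 9, 3, 9],
  [4, 4],
  [4, 5, 4, 5, 4, 5],
  [4, 6, 4, 6],
  [4, 7, 4, 7],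
  [4, 8, 4, 8, 4, 8],
  [4, 9, 4, 9],
  [5, 5],
  [5, 6, 5, 6, 5, 6],
  [5, 7, 5, 7],
  [5, 8, 5, 8],
  [5, 9, 5, 9],
  [6, 6],
  [6, 7, 6, 7, 6, 7],
  [6, 8, 6, 8],
  [6, 9, 6, 9],
  [7, 7],
  [7, 8, 7, 8],
  [7, 9, 7, 9],
  [8, 8],
  [8, 9, 8, 9, 8, 9],
  [9, 9],
  [4, 3, 2, 4, 5, 6, 4, 8, 9, 4, 3, 2, 4, 5, 6, 4, 8, 9, 4, 3, 2, 4, 5, 6, 4, 8, 9, 4, 3, 2, 4, 5, 6, 4, 8, 9, 4, 3, 2, 4, 5, 6, 4, 8, 9, 4, 3, 2, 4, 5, 6, 4, 8, 9, 4, 3, 2, 4, 5, 6, 4, 8, 9, 4, 3, 2, 4, 5, 6, 4, 8, 9, 4, 3, 2, 4, 5, 6, 4, 8, 9, 4, 3, 2, 4, 5, 6, 4, 8, 9],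
  [2, 3, 4, 5, 6, 7, 8, 2, 3, 4, 5, 6, 7, 8, 2, 3, 4, 5, 6, 7, 8, 2, 3, 4, 5, 6, 7, 8, 2, 3, 4, 5, 6, 7, 8, 2, 3, 4, 5, 6, 7, 8, 2, 3, 4, 5, 6, 7, 8, 2, 3, 4, 5, 6, 7, 8, 2, 3, 4, 5, 6, 7, 8],
  [0],
  [0, 1],
  [1, 0],
  [2, 2],
  [3, 3],
  [4, 4],
  [5, 5],
  [6, 6],
  [7, 7],
  [8, 8],
  [9, 9],
  [2, 10],
  [3, 11],
  [4, 12],
  [5, 13],
  [6, 14],
  [7, 15],
  [8, 16]]
noncomputable def LL : List ℕ := [L0, L1, L2, L3, L4, L5, L6, L7, L8, L9]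
noncomputable def P : LP where
  WL := 16
  WLn := 50544
  mskL := 65535
  LL := LL
  cols := [0, 1, 2, 3, 4, 5, 6, 7, 8, 9]
  rels := [[2, 2],
    [2, 3, 2, 3, 2, 3],
    [2, 4, 2, 4],
    [2, 5, 2, 5],
    [2, 6, 2, 6],
    [2, 7, 2, 7],
    [2, 8, 2, 8],
    [2, 9, 2, 9],
    [3, 3],
    [3, 4, 3, 4, 3, 4],
    [3, 5, 3, 5],
    [3, 6, 3, 6],
    [3, 7, 3, 7],
    [3, 8, 3, 8],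
    [3, 9, 3, 9],
    [4, 4],
    [4, 5, 4, 5, 4, 5],
    [4, 6, 4, 6],
    [4, 7, 4, 7],
    [4, 8, 4, 8, 4, 8],
    [4, 9, 4, 9],
    [5, 5],
    [5, 6, 5, 6, 5, 6],
    [5, 7, 5, 7],
    [5, 8, 5, 8],
    [5, 9, 5, 9],
    [6, 6],
    [6, 7, 6, 7, 6, 7],
    [6, 8, 6, 8],
    [6, 9, 6, 9],
    [7, 7],
    [7, 8, 7, 8],
    [7, 9, 7, 9],
    [8, 8],
    [8, 9, 8, 9, 8, 9],
    [9, 9],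
    [4, 3, 2, 4, 5, 6, 4, 8, 9, 4, 3, 2, 4, 5, 6, 4, 8, 9, 4, 3, 2, 4, 5, 6, 4, 8, 9, 4, 3, 2, 4, 5, 6, 4, 8, 9, 4, 3, 2, 4, 5, 6, 4, 8, 9, 4, 3, 2, 4, 5, 6, 4, 8, 9, 4, 3, 2, 4, 5, 6, 4, 8, 9, 4, 3, 2, 4, 5, 6, 4, 8, 9, 4, 3, 2, 4, 5, 6, 4, 8, 9, 4, 3, 2, 4, 5, 6, 4, 8, 9],
    [2, 3, 4, 5, 6, 7, 8, 2, 3, 4, 5, 6, 7, 8, 2, 3, 4, 5, 6, 7, 8, 2, 3, 4, 5, 6, 7, 8, 2, 3, 4, 5, 6, 7, 8, 2, 3, 4, 5, 6, 7, 8, 2, 3, 4, 5, 6, 7, 8, 2, 3, 4, 5, 6, 7, 8, 2, 3, 4, 5, 6, 7, 8],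
    [0],
    [0, 1],
    [1, 0],
    [2, 2],
    [3, 3],
    [4, 4],
    [5, 5],
    [6, 6],
    [7, 7],
    [8, 8],
    [9, 9]]
  hws := [[2],
    [3],
    [4],
    [5],
    [6],
    [7],
    [8]]
  twl := [[],
    [2],
    [3],
    [4],
    [5],
    [6],
    [7],
    [8],
    [0],
    [1],
    [2],
    [3],
    [4],
    [5],
    [6],
    [7],
    [8],
    [9]]
  nH := 7
  bounds := [16, 4624, 14704]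

end Cfsg.Agent.Lib.Helper29.FiB
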