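import Cfsg.Agent.Lib.Helper29.FiB.Data

set_option autoImplicit false
set_option Elab.async false

namespace Cfsg.Agent.Lib.Helper29.FiB

open Cfsg.Agent.Lib.Helper29.TcTrace Cfsg.Agent.Lib.Helper29.TcCert Cfsg.Agent.Lib.Helper29.TcPerm

theorem lblk_0 : chkPBlk P 5 31 188 3159 0 0x29466218a2314a3314642902711c66314c5190c528cc5190a40904718c86298a42902628c852048218c84098c521481208a40904339021208c52902410c8219c8120822198a42086719ca110c433948319ca73086719ca419ce618ce539cc339887398e621ca7310c7288c72946628c852048219e20 = true := by decide +kernel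
theorem lblk_1 : chkPBlk P 5 31 188 3159 1 0x20ce5398e539823394e6108673986720ce5398e53982539847398633988729cc129cc230ce621ca53984619887290c3310a3310a228625398c319cc4398872948719cc530ca6310e731cc4394e6218e511067398e5298c4318853988639446394a319ce631ca231885310c5118e528cc5190e7118c7 = true := by decide +kernel
theorem lblk_2 : chkPBlk P 5 31 188 3159 2 0x2148219067108a419c6719021208640904338c6721482208672086720ce5108a419c6718c8338c6720482088672086720ce5290432086720ce53986718c8338c6721c83390672844310ce419ca73104410ce3394e608c8338c6721c833906729c83394e610ce3394e60848218ce53984720ce419ca7 = true := by decide +kernel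
theorem lblk_3 : chkPBlk P 5 31 188 3159 3 0x2902410ca528c8420447388e3394c5190a40902410ce519065204822908219ca3290a40902410ce238c6428c85204822086738ca40948410ca410ce229484290241104339c63210252902410c83388652104520867208671948411067094821906710c84090452048219c67194852086410ce320867 = true := by decide +kernel
theorem lblk_4 : chkPBlk P 5 31 188 3159 4 0x39884394e629cc4094e6208c388c6319c8328c8721ca539884394e43944529cc73104439487288e528ca4398e621ca2190e511ce528ca3210a419ce6218e510c6439ca519ca328c852048520ce739446394a31908139ca328c8728c8520482214a320467388e6394a3314642102411ca33946429023 = true := by decide +kernel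
theorem lblk_5 : chkPBlk P 5 31 188 3159 5 0x20ce5290433888219c6410ce42086720ce53986729cc419c433848219c4338cc520ce22048219c633908219c83394e620867190433906728ce539887314e119c4219c63390a419c6410ce419ca3394e6210433906729cc73144711c6219c83394833906729cc73146729cc518ce419ca730ce5398a3 = true := by decide +kernel
theorem lblk_6 : chkPBlk P 5 31 188 3159 6 0x19481208672908219c25208671148219c4410ce319c81208671886721ca629041208632048219c8219c262902410ce52902410ce120ce2194812086710ce319c8521043384a410ce2208671904338c8219c833948219c83394e61906110ce42086709067118a410ce12902410ce219c640904338c67 = true := by decide +kernel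
theorem lblk_7 : chkPBlk P 5 31 188 3159 7 0x31485204e3190a40904420482198a628c8520482394c5190a4090432048219ca5190a4090433904338483388e5190a40904319481208672908219c2521043384a410ce219c65090433884338ce4298a42902411c64204821902410ce6290a40904328c852048219c8219c2519481208670906710ce3 = true := by decide +kernel
theorem lblk_8 : chkPBlk P 5 31 188 3159 8 0x2902410c652048219c8219c232148120867210433846710cc7298a628c8738cc5190a408c8520482318a5198a321481398e528cc5190a40904420482190e5314642902410c81208672086709ca328c8520482394642902410c652048219c652048219ca42086709067114812086709043388e3218a3 = true := by decide +kernel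
theorem lblk_9 : chkPBlk P 5 31 188 3159 9 0x28c852048239465190a40904728c85204821902410ce7194642902410c64090433886709c47310c6394a3388c72946628c833146429026218a2314a33146439ca231ca5198a321481190a409047218e528cc5190a409044204821902410ce7394a3314642902728ca321481208e5190a40904339464 = true := by decide +kernel
theorem lblk_10 : chkPBlk P 5 31 188 3159 10 0x2148139ca5198a32148139465190a4090442048219c4728ca321481208e32102410c2219ce139cc7310c729ce631ca231ca5188c528cc5190c6214c431446394a339cc431ca231ca5198a320cc5190a409ce439446394a3314642902321481208840904321ca231ca5198a321ce528cc5190a409ca3 = true := by decide +kernel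
theorem lblk_11 : chkPBlk P 5 31 188 3159 11 0x28cc5190a408c852048239c472946628c85204e3190a4090412086338ce539cc7310e731ca7310c7288c6288c72946531886310a7310c7288e63988729cc431ca231ca5188c528cc5190e721cc431ca231ca5198a320cc5190a408c852048221ca7310c7288c72946439446394a33146439ca5198a3 = true := by decide +kernel
theorem lblk_12 : chkPBlk P 5 31 188 3159 12 0x38cc5190a4094812088310ce3394e731c6731ce639887298a7310c7288a6194c621ce639887294e639887398e621ca7310c7288c6288c72946339cc7310e53988639446394a3118a5198a320cc5190a4090e63988729cc431ca221ca7310c7288c72946439446394a33146421ca231ca5198a321ce5 = true := by decide +kernel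
theorem lblk_13 : chkPBlk P 5 31 188 3159 13 0x39887294e629863394e731cc429cc3394e730ce621ce639887298a7310c72886329cc7310e731cc4394e6218e5118c5118e528c462946628c8339867310e731cc43948731cc4394e6218e5110e53988639446394a321ca7310c7288c72946439446394a331464198a32148119c87288c72946628c87 = true := by decide +kernel
theorem lblk_14 : chkPBlk P 5 31 188 3159 14 0x39886398872886539863394e730ce621cc4394c5398863944631446394a338ce619ce619cc419cc339887310e521cc7310e53988639444398e621ca7310c72888729cc431ca231ca5188c528cc51908321ca7310c7288c729467118e528cc5190c5214812904110c4338ce519c6729ce619cc431ce6 = true := by decide +kernel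
theorem lblk_15 : chkPBlk P 5 31 188 3159 15 0x21ca3394e61948319ca731067398673104329c633948339cc319cc431cc4394c531ca220ce619ce619c6730c673106730ce621cc43946730ce621cc43948731cc4394c7288c6288a329064398e621ca639447398c7288a33148219c8319ca339cc7398e621ca53986729ce618ca73948339cc339cc3 = true := by decide +kernel
theorem lblk_16 : chkPBlk P 5 31 188 3159 16 0x84520863294833986320ce618ce339863314e419cc319c6729087390672948418ce529067308621948319ca731063398863948720ce620ce618ce3398633988719cc319cc419cc339887298a23148339867310e539cc72888418ce539cc7 = true := by decide +kernel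
theorem lo_0_1 : ∀ b, 0 ≤ b → b < 1 → ∃ J, chkPBlk P 5 31 188 3159 b J = true := fun b h1 h2 => by
  have hb : b = 0 := Nat.le_antisymm (Nat.le_of_lt_succ h2) h1
  subst hb; exact ⟨_, lblk_0⟩
theorem lo_1_2 : ∀ b, 1 ≤ b → b < 2 → ∃ J, chkPBlk P 5 31 188 3159 b J = true := fun b h1 h2 => by
  have hb : b = 1 := Nat.le_antisymm (Nat.le_of_lt_succ h2) h1
  subst hb; exact ⟨_, lblk_1⟩
theorem lo_0_2 : ∀ b, 0 ≤ b → b < 2 → ∃ J, chkPBlk P 5 31 188 3159 b J = true := fun b h1 h2 =>
  if h : b < 1 then lo_0_1 b h1 h else lo_1_2 b (Nat.le_of_not_lt h) h2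
theorem lo_2_3 : ∀ b, 2 ≤ b → b < 3 → ∃ J, chkPBlk P 5 31 188 3159 b J = true := fun b h1 h2 => by
  have hb : b = 2 := Nat.le_antisymm (Nat.le_of_lt_succ h2) h1
  subst hb; exact ⟨_, lblk_2⟩
theorem lo_3_4 : ∀ b, 3 ≤ b → b < 4 → ∃ J, chkPBlk P 5 31 188 3159 b J = true := fun b h1 h2 => by
  have hb : b = 3 := Nat.le_antisymm (Nat.le_of_lt_succ h2) h1
  subst hb; exact ⟨_, lblk_3⟩
theorem lo_2_4 : ∀ b, 2 ≤ b → b < 4 → ∃ J, chkPBlk P 5 31 188 3159 b J = true := fun b h1 h2 =>
  if h : b < 3 then lo_2_3 b h1 h else lo_3_4 b (Nat.le_of_not_lt h) h2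
theorem lo_0_4 : ∀ b, 0 ≤ b → b < 4 → ∃ J, chkPBlk P 5 31 188 3159 b J = true := fun b h1 h2 =>
  if h : b < 2 then lo_0_2 b h1 h else lo_2_4 b (Nat.le_of_not_lt h) h2
theorem lo_4_5 : ∀ b, 4 ≤ b → b < 5 → ∃ J, chkPBlk P 5 31 188 3159 b J = true := fun b h1 h2 => by
  have hb : b = 4 := Nat.le_antisymm (Nat.le_of_lt_succ h2) h1
  subst hb; exact ⟨_, lblk_4⟩
theorem lo_5_6 : ∀ b, 5 ≤ b → b < 6 → ∃ J, chkPBlk P 5 31 188 3159 b J = true := fun b h1 h2 => by
  have hb : b = 5 := Nat.le_antisymm (Nat.le_of_lt_succ h2) h1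
  subst hb; exact ⟨_, lblk_5⟩
theorem lo_4_6 : ∀ b, 4 ≤ b → b < 6 → ∃ J, chkPBlk P 5 31 188 3159 b J = true := fun b h1 h2 =>
  if h : b < 5 then lo_4_5 b h1 h else lo_5_6 b (Nat.le_of_not_lt h) h2
theorem lo_6_7 : ∀ b, 6 ≤ b → b < 7 → ∃ J, chkPBlk P 5 31 188 3159 b J = true := fun b h1 h2 => by
  have hb : b = 6 := Nat.le_antisymm (Nat.le_of_lt_succ h2) h1
  subst hb; exact ⟨_, lblk_6⟩
theorem lo_7_8 : ∀ b, 7 ≤ b → b < 8 → ∃ J, chkPBlk P 5 31 188 3159 b J = true := fun b h1 h2 => by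
  have hb : b = 7 := Nat.le_antisymm (Nat.le_of_lt_succ h2) h1
  subst hb; exact ⟨_, lblk_7⟩
theorem lo_6_8 : ∀ b, 6 ≤ b → b < 8 → ∃ J, chkPBlk P 5 31 188 3159 b J = true := fun b h1 h2 =>
  if h : b < 7 then lo_6_7 b h1 h else lo_7_8 b (Nat.le_of_not_lt h) h2
theorem lo_4_8 : ∀ b, 4 ≤ b → b < 8 → ∃ J, chkPBlk P 5 31 188 3159 b J = true := fun b h1 h2 =>
  if h : b < 6 then lo_4_6 b h1 h else lo_6_8 b (Nat.le_of_not_lt h) h2
theorem lo_0_8 : ∀ b, 0 ≤ b → b < 8 → ∃ J, chkPBlk P 5 31 188 3159 b J = true := fun b h1 h2 =>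
  if h : b < 4 then lo_0_4 b h1 h else lo_4_8 b (Nat.le_of_not_lt h) h2
theorem lo_8_9 : ∀ b, 8 ≤ b → b < 9 → ∃ J, chkPBlk P 5 31 188 3159 b J = true := fun b h1 h2 => by
  have hb : b = 8 := Nat.le_antisymm (Nat.le_of_lt_succ h2) h1
  subst hb; exact ⟨_, lblk_8⟩
theorem lo_9_10 : ∀ b, 9 ≤ b → b < 10 → ∃ J, chkPBlk P 5 31 188 3159 b J = true := fun b h1 h2 => by
  have hb : b = 9 := Nat.le_antisymm (Nat.le_of_lt_succ h2) h1
  subst hb; exact ⟨_, lblk_9⟩
theorem lo_8_10 : ∀ b, 8 ≤ b → b < 10 → ∃ J, chkPBlk P 5 31 188 3159 b J = true := fun b h1 h2 =>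
  if h : b < 9 then lo_8_9 b h1 h else lo_9_10 b (Nat.le_of_not_lt h) h2
theorem lo_10_11 : ∀ b, 10 ≤ b → b < 11 → ∃ J, chkPBlk P 5 31 188 3159 b J = true := fun b h1 h2 => by
  have hb : b = 10 := Nat.le_antisymm (Nat.le_of_lt_succ h2) h1
  subst hb; exact ⟨_, lblk_10⟩
theorem lo_11_12 : ∀ b, 11 ≤ b → b < 12 → ∃ J, chkPBlk P 5 31 188 3159 b J = true := fun b h1 h2 => by
  have hb : b = 11 := Nat.le_antisymm (Nat.le_of_lt_succ h2) h1
  subst hb; exact ⟨_, lblk_11⟩
theorem lo_10_12 : ∀ b, 10 ≤ b → b < 12 → ∃ J, chkPBlk P 5 31 188 3159 b J = true := fun b h1 h2 =>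
  if h : b < 11 then lo_10_11 b h1 h else lo_11_12 b (Nat.le_of_not_lt h) h2
theorem lo_8_12 : ∀ b, 8 ≤ b → b < 12 → ∃ J, chkPBlk P 5 31 188 3159 b J = true := fun b h1 h2 =>
  if h : b < 10 then lo_8_10 b h1 h else lo_10_12 b (Nat.le_of_not_lt h) h2
theorem lo_12_13 : ∀ b, 12 ≤ b → b < 13 → ∃ J, chkPBlk P 5 31 188 3159 b J = true := fun b h1 h2 => by
  have hb : b = 12 := Nat.le_antisymm (Nat.le_of_lt_succ h2) h1
  subst hb; exact ⟨_, lblk_12⟩
theorem lo_13_14 : ∀ b, 13 ≤ b → b < 14 → ∃ J, chkPBlk P 5 31 188 3159 b J = true := fun b h1 h2 => by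
  have hb : b = 13 := Nat.le_antisymm (Nat.le_of_lt_succ h2) h1
  subst hb; exact ⟨_, lblk_13⟩
theorem lo_12_14 : ∀ b, 12 ≤ b → b < 14 → ∃ J, chkPBlk P 5 31 188 3159 b J = true := fun b h1 h2 =>
  if h : b < 13 then lo_12_13 b h1 h else lo_13_14 b (Nat.le_of_not_lt h) h2
theorem lo_14_15 : ∀ b, 14 ≤ b → b < 15 → ∃ J, chkPBlk P 5 31 188 3159 b J = true := fun b h1 h2 => by
  have hb : b = 14 := Nat.le_antisymm (Nat.le_of_lt_succ h2) h1
  subst hb; exact ⟨_, lblk_14⟩
theorem lo_15_16 : ∀ b, 15 ≤ b → b < 16 → ∃ J, chkPBlk P 5 31 188 3159 b J = true := fun b h1 h2 => by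
  have hb : b = 15 := Nat.le_antisymm (Nat.le_of_lt_succ h2) h1
  subst hb; exact ⟨_, lblk_15⟩
theorem lo_16_17 : ∀ b, 16 ≤ b → b < 17 → ∃ J, chkPBlk P 5 31 188 3159 b J = true := fun b h1 h2 => by
  have hb : b = 16 := Nat.le_antisymm (Nat.le_of_lt_succ h2) h1
  subst hb; exact ⟨_, lblk_16⟩
theorem lo_15_17 : ∀ b, 15 ≤ b → b < 17 → ∃ J, chkPBlk P 5 31 188 3159 b J = true := fun b h1 h2 =>
  if h : b < 16 then lo_15_16 b h1 h else lo_16_17 b (Nat.le_of_not_lt h) h2
theorem lo_14_17 : ∀ b, 14 ≤ b → b < 17 → ∃ J, chkPBlk P 5 31 188 3159 b J = true := fun b h1 h2 =>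
  if h : b < 15 then lo_14_15 b h1 h else lo_15_17 b (Nat.le_of_not_lt h) h2
theorem lo_12_17 : ∀ b, 12 ≤ b → b < 17 → ∃ J, chkPBlk P 5 31 188 3159 b J = true := fun b h1 h2 =>
  if h : b < 14 then lo_12_14 b h1 h else lo_14_17 b (Nat.le_of_not_lt h) h2
theorem lo_8_17 : ∀ b, 8 ≤ b → b < 17 → ∃ J, chkPBlk P 5 31 188 3159 b J = true := fun b h1 h2 =>
  if h : b < 12 then lo_8_12 b h1 h else lo_12_17 b (Nat.le_of_not_lt h) h2
theorem lo_0_17 : ∀ b, 0 ≤ b → b < 17 → ∃ J, chkPBlk P 5 31 188 3159 b J = true := fun b h1 h2 =>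
  if h : b < 8 then lo_0_8 b h1 h else lo_8_17 b (Nat.le_of_not_lt h) h2

end Cfsg.Agent.Lib.Helper29.FiB
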